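/-
Products of six transvections with centres on an oval of a totally isotropic plane, and the
relations they give one and two levels up.
-/
import Cfsg.Agent.H65.Fischer.Orders

set_option autoImplicit false

namespace H65.Fischer

open Cfsg H99 Matrix H50
open H5.TT
open H5.TT.Fac (Down qD im Desc UCoord)

/-- A vector of the standard totally isotropic plane. -/
def planeVec {F : Type*} (a : Fin 3 → F) : Fin 6 → F := ![a 0, a 0, a 1, a 1, a 2, a 2]

/-- The nine points are different. -/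
lemma coords_inj {F : Type*} [Field F] {i j l k k' : F} (hi : i ≠ 0) (hj : j ≠ 0) (hl : l ≠ 0)
    (hk : k ≠ k') (hij : i ≠ j) (hil : i ≠ l) (hjl : j ≠ l) {s t : Fin 9} {c : F} (hc : c ≠ 0)
    (he : (![![1, 0, 0], ![0, 1, 0], ![0, 0, 1],
    ![1, i, k * i ^ 2], ![1, j, k * j ^ 2], ![1, l, k * l ^ 2],
    ![1, i, k' * i ^ 2], ![1, j, k' * j ^ 2], ![1, l, k' * l ^ 2]] : Fin 9 → Fin 3 → F) t = c • (![![1, 0, 0], ![0, 1, 0], ![0, 0, 1],
    ![1, i, k * i ^ 2], ![1, j, k * j ^ 2], ![1, l, k * l ^ 2],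
    ![1, i, k' * i ^ 2], ![1, j, k' * j ^ 2], ![1, l, k' * l ^ 2]] : Fin 9 → Fin 3 → F) s) : s = t := by
  have h1 := congrFun he 0
  have h2 := congrFun he 1
  have h3 := congrFun he 2
  simp only [Pi.smul_apply, smul_eq_mul] at h1 h2 h3
  clear he
  fin_cases s <;> fin_cases t <;> first
    | rfl
    | (exfalso
       simp only [Fin.reduceFinMk, Fin.zero_eta, Fin.mk_one, Fin.isValue, Matrix.cons_val, mul_zero, mul_one, zero_eq_mul, mul_eq_zero, one_ne_zero, or_self, or_false, false_or, hi, hj, hl, hc, zero_ne_one] at h1 h2 h3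
       done)
    | (exfalso
       simp only [Fin.reduceFinMk, Fin.zero_eta, Fin.mk_one, Fin.isValue, Matrix.cons_val, mul_zero, mul_one] at h1 h2 h3
       first
         | exact hc h1.symm
         | exact one_ne_zero h1
         | exact hc h2.symm
         | exact one_ne_zero h2
         | exact hc h3.symm
         | exact one_ne_zero h3
         | skip
       done)
    | (exfalso
       simp only [Fin.reduceFinMk, Fin.zero_eta, Fin.mk_one, Fin.isValue, Matrix.cons_val, mul_one] at h1 h2 h3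
       subst h1
       rw [one_mul] at h2 h3
       first
         | exact hij h2 | exact hij h2.symm | exact hil h2 | exact hil h2.symm | exact hjl h2 | exact hjl h2.symm
         | exact hk (mul_right_cancel₀ (pow_ne_zero 2 hi) h3) | exact hk (mul_right_cancel₀ (pow_ne_zero 2 hi) h3).symm
         | exact hk (mul_right_cancel₀ (pow_ne_zero 2 hj) h3) | exact hk (mul_right_cancel₀ (pow_ne_zero 2 hj) h3).symm
         | exact hk (mul_right_cancel₀ (pow_ne_zero 2 hl) h3) | exact hk (mul_right_cancel₀ (pow_ne_zero 2 hl) h3).symm)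

section six

variable {F : Type*} [Field F] [Fintype F] (hF : Fintype.card F = 2 ^ 2)
include hF

lemma planeVec_orth (a b : Fin 3 → F) : hermForm 6 F 2 (planeVec a) (planeVec b) = 0 := by
  simp only [hermForm, planeVec, Fin.sum_univ_six, Matrix.cons_val]
  linear_combination (a 0 * b 0 ^ 2 + a 1 * b 1 ^ 2 + a 2 * b 2 ^ 2) * H92.gf4_two hF

omit [Fintype F] hF in
lemma planeVec_injective : Function.Injective (planeVec : (Fin 3 → F) → Fin 6 → F) := fun a b hab => by
  funext i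
  fin_cases i
  · exact congrFun hab 0
  · exact congrFun hab 2
  · exact congrFun hab 4

omit [Fintype F] hF in
lemma planeVec_smul (c : F) (a : Fin 3 → F) : planeVec (c • a) = c • planeVec a := by
  funext i
  fin_cases i <;> simp [planeVec]

/-- The six transvections of an oval multiply to one. -/
theorem six_oval {k i j l : F} (hk : k ≠ 0) (hi : i ≠ 0) (hj : j ≠ 0) (hl : l ≠ 0) (hij : i ≠ j)
    (hil : i ≠ l) (hjl : j ≠ l) {A B C P Q R : SU 6 F 2} (hA : U2.IsTr A (planeVec ![1, 0, 0]))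
    (hB : U2.IsTr B (planeVec ![0, 1, 0])) (hC : U2.IsTr C (planeVec ![0, 0, 1]))
    (hP : U2.IsTr P (planeVec ![1, i, k * i ^ 2])) (hQ : U2.IsTr Q (planeVec ![1, j, k * j ^ 2]))
    (hR : U2.IsTr R (planeVec ![1, l, k * l ^ 2])) : A * B * C * P * Q * R = 1 := by
  obtain ⟨s1, s2⟩ := Six.sum_three hF hi hj hl hij hil hjl
  have c1 := U2.cube hF hi
  have c2 := U2.cube hF hj
  have c3 := U2.cube hF hl
  have ck := U2.cube hF hk
  have e2 := H92.gf4_two hF
  refine suMat_ext fun u => ?_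
  simp only [suMat_mulVec_mul, hA.2.2, hB.2.2, hC.2.2, hP.2.2, hQ.2.2, hR.2.2, h_add_left,
    h_smul_left, planeVec_orth hF, mul_zero, add_zero, suMat_one, one_mulVec]
  simp only [hermForm, planeVec, Fin.sum_univ_six, Matrix.cons_val]
  funext t
  simp only [Pi.add_apply, Pi.smul_apply, smul_eq_mul]
  set X := u 0 + u 1
  set Y := u 2 + u 3
  set Z := u 4 + u 5
  fin_cases t <;> simp
  · linear_combination (2 * X) * e2 + Y * s2 + k ^ 2 * Z * s1 +
      k ^ 2 * Z * (i * c1 + j * c2 + l * c3)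
  · linear_combination (2 * X) * e2 + Y * s2 + k ^ 2 * Z * s1 +
      k ^ 2 * Z * (i * c1 + j * c2 + l * c3)
  · linear_combination (2 * Y) * e2 + X * s1 + Y * (c1 + c2 + c3) +
      k ^ 2 * Z * (i ^ 2 * c1 + j ^ 2 * c2 + l ^ 2 * c3) + k ^ 2 * Z * s2
  · linear_combination (2 * Y) * e2 + X * s1 + Y * (c1 + c2 + c3) +
      k ^ 2 * Z * (i ^ 2 * c1 + j ^ 2 * c2 + l ^ 2 * c3) + k ^ 2 * Z * s2
  · linear_combination (2 * Z) * e2 + k * X * s2 + k * Y * (i * c1 + j * c2 + l * c3) + k * Y * s1 +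
      k ^ 3 * Z * ((i ^ 3 + 1) * c1 + (j ^ 3 + 1) * c2 + (l ^ 3 + 1) * c3) + 3 * Z * ck
  · linear_combination (2 * Z) * e2 + k * X * s2 + k * Y * (i * c1 + j * c2 + l * c3) + k * Y * s1 +
      k ^ 3 * Z * ((i ^ 3 + 1) * c1 + (j ^ 3 + 1) * c2 + (l ^ 3 + 1) * c3) + 3 * Z * ck

end six

variable {G : Type*} [Group G] [Finite G] {D : Set G}

lemma mem_zpowers_two {d x : G} (hd : d * d = 1) (hx : x ∈ Subgroup.zpowers d) : x = 1 ∨ x = d := by
  obtain ⟨i, rfl⟩ := hx
  have h2 : (d : G) ^ (2 : ℤ) = 1 := by rw [zpow_two, hd]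
  rcases Int.even_or_odd' i with ⟨j, rfl | rfl⟩
  · exact Or.inl (by simp [_root_.zpow_mul, h2])
  · exact Or.inr (by simp [_root_.zpow_add, _root_.zpow_mul, h2])

/-- Two relations of length seven through a member at type M(22). -/
theorem m22_seven (hD : IsThreeTranspositionGroup D) (hp : IsPrimitiveUnderConj D)
    (h : IsOfTypeM22 G D) {d : G} (hd : d ∈ D) :
    ∃ f : Fin 9 → G, Function.Injective f ∧ (∀ i, f i ∈ perp D d) ∧
      (∀ i j, Commute (f i) (f j)) ∧ f 0 * f 1 * f 2 * f 3 * f 4 * f 5 = d ∧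
      f 0 * f 1 * f 2 * f 6 * f 7 * f 8 = d := by
  classical
  obtain ⟨F, hFi, hFf, hF, hall⟩ := m22_down hD hp h
  obtain ⟨hdesc, -, ⟨e⟩⟩ := hall d hd
  have hs := m22_setting hD hp h
  have hg := m22_good hD hp h
  have hT := hD.1
  set U := H5.TT.Fac.ucoord hF hD.1 hD.2.1 e with hU
  have hpt : ∀ a : Fin 3 → F, a ≠ 0 → ∃ x, U.C x (planeVec a) := fun a ha =>
    U.surj hF (fun h0 => ha (planeVec_injective (h0.trans (by
      funext i; fin_cases i <;> simp [planeVec])))) (planeVec_orth hF a a)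
  obtain ⟨i, j, l, hi, hj, hl, hij, hil, hjl, hthree⟩ := Six.exists_three hF
  choose X hX using fun a : {a : Fin 3 → F // a ≠ 0} => hpt a.1 a.2
  have hne1 : (![1, 0, 0] : Fin 3 → F) ≠ 0 := fun h0 => by simpa using congrFun h0 0
  have hne2 : (![0, 1, 0] : Fin 3 → F) ≠ 0 := fun h0 => by simpa using congrFun h0 1
  have hne3 : (![0, 0, 1] : Fin 3 → F) ≠ 0 := fun h0 => by simpa using congrFun h0 2
  have hnep : ∀ k t : F, (![1, t, k * t ^ 2] : Fin 3 → F) ≠ 0 := fun k t h0 => by
    simpa using congrFun h0 0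
  obtain ⟨a, ha⟩ : ∃ a, U.C a (planeVec ![1, 0, 0]) := ⟨_, hX ⟨_, hne1⟩⟩
  obtain ⟨b, hb⟩ : ∃ b, U.C b (planeVec ![0, 1, 0]) := ⟨_, hX ⟨_, hne2⟩⟩
  obtain ⟨c, hc⟩ : ∃ c, U.C c (planeVec ![0, 0, 1]) := ⟨_, hX ⟨_, hne3⟩⟩
  obtain ⟨P, hP⟩ : ∃ P : F → F → G, ∀ k t, U.C (P k t) (planeVec ![1, t, k * t ^ 2]) :=
    ⟨fun k t => X ⟨_, hnep k t⟩, fun k t => hX ⟨_, hnep k t⟩⟩
  -- the value of a product over an oval
  have hval : ∀ k, k ≠ 0 →
      a * b * c * P k i * P k j * P k l = 1 ∨ a * b * c * P k i * P k j * P k l = d := by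
    intro k hk
    have hap := U.mem ha
    have hbp := U.mem hb
    have hcp := U.mem hc
    have hip := U.mem (hP k i)
    have hjp := U.mem (hP k j)
    have hlp := U.mem (hP k l)
    obtain ⟨_, A, hA, eA⟩ := ha
    obtain ⟨_, B, hB, eB⟩ := hb
    obtain ⟨_, C, hC, eC⟩ := hc
    obtain ⟨_, P₁, h1, e1⟩ := hP k i
    obtain ⟨_, P₂, h2, e2⟩ := hP k j
    obtain ⟨_, P₃, h3, e3⟩ := hP k l
    have hone : (im hap * im hbp * im hcp * im hip * im hjp * im hlp : Down D d) = 1 := by
      refine e.injective ?_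
      simp only [map_mul, map_one]
      calc e (im hap) * e (im hbp) * e (im hcp) * e (im hip) * e (im hjp) * e (im hlp)
          = QuotientGroup.mk A * QuotientGroup.mk B * QuotientGroup.mk C *
            QuotientGroup.mk P₁ * QuotientGroup.mk P₂ * QuotientGroup.mk P₃ := by
              rw [eA, eB, eC, e1, e2, e3]; rfl
        _ = 1 := by
          simp only [← QuotientGroup.mk_mul]
          rw [six_oval hF hk hi hj hl hij hil hjl hA hB hC h1 h2 h3, QuotientGroup.mk_one]
    have hm := mul_mem (mul_mem (mul_mem (mul_mem (mul_mem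
      (Subgroup.subset_closure hap) (Subgroup.subset_closure hbp))
      (Subgroup.subset_closure hcp)) (Subgroup.subset_closure hip))
      (Subgroup.subset_closure hjp)) (Subgroup.subset_closure hlp)
    exact mem_zpowers_two (tt_mul_self hT hd)
      (kernel_closure hs hg.srg num_22 hd hm ((H5.TT.Fac.mk_eq_one hm).1 hone))
  obtain ⟨f, hf⟩ : ∃ f : F → F → Fin 9 → G, ∀ k k',
      f k k' = ![a, b, c, P k i, P k j, P k l, P k' i, P k' j, P k' l] := ⟨_, fun _ _ => rfl⟩
  let co : F → F → Fin 9 → Fin 3 → F := fun k k' => ![![1, 0, 0], ![0, 1, 0], ![0, 0, 1],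
    ![1, i, k * i ^ 2], ![1, j, k * j ^ 2], ![1, l, k * l ^ 2],
    ![1, i, k' * i ^ 2], ![1, j, k' * j ^ 2], ![1, l, k' * l ^ 2]]
  have hfC : ∀ k k' t, U.C (f k k' t) (planeVec (co k k' t)) := by
    intro k k' t
    rw [hf]
    fin_cases t
    exacts [ha, hb, hc, hP k i, hP k j, hP k l, hP k' i, hP k' j, hP k' l]
  have hfinj : ∀ k k', k ≠ k' → Function.Injective (f k k') := by
    intro k k' hkk s t hst
    obtain ⟨z, hz, he⟩ := U.prop (hfC k k' s) (hst.symm ▸ hfC k k' t)
    rw [← planeVec_smul] at he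
    exact coords_inj hi hj hl hkk hij hil hjl hz (planeVec_injective he)
  have hfp : ∀ k k' t, f k k' t ∈ perp D d := fun k k' t => U.mem (hfC k k' t)
  have hfc : ∀ k k' s t, Commute (f k k' s) (f k k' t) := fun k k' s t =>
    (U.comm (hfC k k' s) (hfC k k' t)).2 (planeVec_orth hF _ _)
  -- at most one oval gives one
  have hnot : ∀ k k', k ≠ k' → a * b * c * P k i * P k j * P k l = 1 →
      a * b * c * P k' i * P k' j * P k' l = 1 → False := by
    intro k k' hkk h1 h2
    have ginj := hfinj k k' hkk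
    have gp := hfp k k'
    have gc := hfc k k'
    obtain ⟨g, hg'⟩ : ∃ g, g = f k k' := ⟨_, rfl⟩
    rw [← hg'] at ginj gp gc
    rw [hf] at hg'
    have h1' : g 0 * g 1 * g 2 * g 3 * g 4 * g 5 = 1 := by rw [hg']; exact h1
    have h2' : g 0 * g 1 * g 2 * g 6 * g 7 * g 8 = 1 := by rw [hg']; exact h2
    have gne : ∀ {s t : Fin 9}, s ≠ t → g s ≠ g t := fun hst he => hst (ginj he)
    have hgd : g 0 ∈ D := (gp 0).1
    obtain ⟨hA, -, ⟨eA⟩⟩ := hall (g 0) hgd
    have pb : g 1 ∈ perp D (g 0) := ⟨(gp 1).1, gne (by decide), gc 0 1⟩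
    have pc : g 2 ∈ perp D (g 0) := ⟨(gp 2).1, gne (by decide), gc 0 2⟩
    obtain ⟨p, q, r, -, -, -, -, -, -, hline⟩ := H5.TT.Fac.exists_line hF hA
      (H5.TT.Fac.ucoord hF hD.1 hD.2.1 eA) pb pc (gne (by decide)) (gc 1 2)
    have hone : ∀ x y z : Fin 9, x ∉ ({0, 1, 2} : Set (Fin 9)) → x ≠ y → x ≠ z → y ≠ z →
        g 0 * g 1 * g 2 * g x * g y * g z = 1 → H5.TT.Fac.OnLine D (g 0) (g 1) (g 2) (g x) := by
      intro x y z hx hxy hxz hyz hp1
      simp only [Set.mem_insert_iff, Set.mem_singleton_iff, not_or] at hx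
      refine ⟨⟨(gp x).1, gne hx.1, gc 0 x⟩, gne hx.2.1, gne hx.2.2, fun w hw hwb hwc => ?_⟩
      have hprod : g x * g y * g z = (g 0 * g 1 * g 2)⁻¹ :=
        eq_inv_of_mul_eq_one_right (by rw [← hp1]; group)
      have hwabc : Commute w ((g 0 * g 1 * g 2)⁻¹) :=
        (((hw.2.2.symm.mul_right hwb).mul_right hwc)).inv_right
      rw [← hprod] at hwabc
      exact ((H91.commute_triple_iff hT (gp x).1 (gp y).1 (gp z).1 hw.1 (gne hxy) (gne hxz)
        (gne hyz) (gc x y) (gc x z) (gc y z)).1 hwabc).1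
    have hperm : ∀ {x y z : Fin 9}, g 0 * g 1 * g 2 * g x * g y * g z = 1 →
        g 0 * g 1 * g 2 * g y * g x * g z = 1 ∧ g 0 * g 1 * g 2 * g z * g y * g x = 1 := by
      intro x y z hp1
      constructor
      · rwa [mul_assoc (g 0 * g 1 * g 2), ← (gc x y).eq, ← mul_assoc]
      · rwa [show g 0 * g 1 * g 2 * g z * g y * g x = g 0 * g 1 * g 2 * ((g z * g y) * g x) by group,
          ← ((gc x z).mul_right (gc x y)).eq, ← (gc y z).eq, ← mul_assoc, ← mul_assoc]
    have hon : ∀ t : Fin 6, H5.TT.Fac.OnLine D (g 0) (g 1) (g 2) (g (Fin.natAdd 3 t)) := by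
      intro t
      fin_cases t
      · exact hone 3 4 5 (by simp) (by decide) (by decide) (by decide) h1'
      · exact hone 4 3 5 (by simp) (by decide) (by decide) (by decide) (hperm h1').1
      · exact hone 5 4 3 (by simp) (by decide) (by decide) (by decide) (hperm h1').2
      · exact hone 6 7 8 (by simp) (by decide) (by decide) (by decide) h2'
      · exact hone 7 6 8 (by simp) (by decide) (by decide) (by decide) (hperm h2').1
      · exact hone 8 7 6 (by simp) (by decide) (by decide) (by decide) (hperm h2').2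
    have hsub : Set.range (fun t : Fin 6 => g (Fin.natAdd 3 t)) ⊆ ({p, q, r} : Set G) := by
      rintro _ ⟨t, rfl⟩
      simpa using hline _ (hon t)
    have hc6 := Set.ncard_le_ncard hsub (Set.toFinite _)
    rw [← Nat.card_coe_set_eq, Nat.card_range_of_injective (fun s t he => by
      simpa [Fin.ext_iff] using ginj he), Nat.card_eq_fintype_card, Fintype.card_fin] at hc6
    have h3 : ({p, q, r} : Set G).ncard ≤ 3 := by
      refine (Set.ncard_insert_le _ _).trans ?_
      have := Set.ncard_insert_le q ({r} : Set G)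
      rw [Set.ncard_singleton] at this
      omega
    omega
  have hgood : ∀ k k', k ≠ 0 → k' ≠ 0 → k ≠ k' →
      a * b * c * P k i * P k j * P k l = d ∨ a * b * c * P k' i * P k' j * P k' l = d := by
    intro k k' hk hk' hkk
    rcases hval k hk with h1 | h1
    · rcases hval k' hk' with h2 | h2
      · exact (hnot k k' hkk h1 h2).elim
      · exact Or.inr h2
    · exact Or.inl h1
  obtain ⟨k, k', hkk, h1, h2⟩ : ∃ k k', k ≠ k' ∧ a * b * c * P k i * P k j * P k l = d ∧
      a * b * c * P k' i * P k' j * P k' l = d := by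
    rcases hgood i j hi hj hij with h1 | h1
    · rcases hgood j l hj hl hjl with h2 | h2
      · exact ⟨i, j, hij, h1, h2⟩
      · exact ⟨i, l, hil, h1, h2⟩
    · rcases hgood i l hi hl hil with h2 | h2
      · exact ⟨i, j, hij, h2, h1⟩
      · exact ⟨j, l, hjl, h1, h2⟩
  exact ⟨f k k', hfinj k k' hkk, hfp k k', hfc k k', by rw [hf]; exact h1, by rw [hf]; exact h2⟩

/-- A member of type M(23) is a product of six commuting neighbours of another one. -/
theorem m23_seven (hD : IsThreeTranspositionGroup D) (hp : IsPrimitiveUnderConj D)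
    (h : IsOfTypeM23 G D) {d : G} (hd : d ∈ D) :
    ∃ (t : G) (f : Fin 6 → G), t ∈ perp D d ∧ (∀ i, f i ∈ perp D d) ∧
      f 0 * f 1 * f 2 * f 3 * f 4 * f 5 = t := by
  obtain ⟨d₀, hd₀, hdesc, hpX, hX⟩ := m23_down hD hp h
  have hcl := class_of_primitive hD hp
  have hconj := hD.2.1
  suffices h₀ : ∃ (t : G) (f : Fin 6 → G), t ∈ perp D d₀ ∧ (∀ i, f i ∈ perp D d₀) ∧
      f 0 * f 1 * f 2 * f 3 * f 4 * f 5 = t by
    obtain ⟨t, f, ht, hf, he⟩ := h₀
    obtain ⟨g, hg⟩ := class_isConj hcl hd₀ hd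
    exact ⟨g * t * g⁻¹, fun i => g * f i * g⁻¹, hg ▸ perp_conj hconj g ht,
      fun i => hg ▸ perp_conj hconj g (hf i), by rw [← he]; group⟩
  have hXg := class_toGroup (H5.TT.Fac.qD_class hdesc)
  obtain ⟨d', hd', -⟩ := (H5.TT.Fac.qD_class hdesc).2.1
  obtain ⟨φ, φinj, φp, φc, e1, e2⟩ := m22_seven hXg hpX hX hd'
  have hs := m23_setting hD hp h
  have hg := m23_good hD hp h
  have h6 := H5.TT.Fac.noSix_of hcl hd₀ hdesc (H5.TT.Fac.noFive_m22 hXg hpX hX)
  obtain ⟨t, ht, rfl⟩ := H5.TT.Fac.exists_of_mem hd'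
  choose g hgp hge using fun i => H5.TT.Fac.exists_of_mem (φp i).1
  have ginj : Function.Injective g := fun s u he => φinj (by
    rw [hge s, hge u]
    congr 1)
  have gc : ∀ s u, Commute (g s) (g u) := fun s u =>
    (H5.TT.Fac.im_commute hdesc (hgp s) (hgp u)).1 (by rw [← hge, ← hge]; exact φc s u)
  have hval : ∀ x y z : Fin 9,
      φ 0 * φ 1 * φ 2 * φ x * φ y * φ z = im ht →
      g 0 * g 1 * g 2 * g x * g y * g z = t ∨ g 0 * g 1 * g 2 * g x * g y * g z = t * d₀ := by
    intro x y z hxyz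
    rw [hge 0, hge 1, hge 2, hge x, hge y, hge z] at hxyz
    have hone : (im ht * (im (hgp 0) * im (hgp 1) * im (hgp 2) * im (hgp x) * im (hgp y) *
        im (hgp z)) : Down D d₀) = 1 := by rw [hxyz, im_sq hD.1 ht]
    have hm := mul_mem (Subgroup.subset_closure ht) (mul_mem (mul_mem (mul_mem (mul_mem (mul_mem
      (Subgroup.subset_closure (hgp 0)) (Subgroup.subset_closure (hgp 1)))
      (Subgroup.subset_closure (hgp 2))) (Subgroup.subset_closure (hgp x)))
      (Subgroup.subset_closure (hgp y))) (Subgroup.subset_closure (hgp z)))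
    have hk := mem_zpowers_two (tt_mul_self hD.1 hd₀)
      (kernel_closure hs hg.srg num_23 hd₀ hm ((H5.TT.Fac.mk_eq_one hm).1 hone))
    rcases hk with hk | hk
    · left
      rw [eq_inv_of_mul_eq_one_right hk, tt_inv hD.1 ht.1]
    · right
      calc g 0 * g 1 * g 2 * g x * g y * g z = t * (t * (g 0 * g 1 * g 2 * g x * g y * g z)) := by
            rw [← mul_assoc t t, tt_mul_self hD.1 ht.1, one_mul]
        _ = t * d₀ := by rw [hk]
  rcases hval 3 4 5 e1 with h1 | h1
  · exact ⟨t, fun i => g (Fin.castLE (by norm_num) i), ht, fun i => hgp _, h1⟩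
  rcases hval 6 7 8 e2 with h2 | h2
  · exact ⟨t, ![g 0, g 1, g 2, g 6, g 7, g 8], ht, fun i => by fin_cases i <;> exact hgp _, h2⟩
  exfalso
  have heq : g 3 * g 4 * g 5 = g 6 * g 7 * g 8 := by
    refine mul_left_cancel (a := g 0 * g 1 * g 2) ?_
    rw [← mul_assoc, ← mul_assoc, h1, ← mul_assoc, ← mul_assoc, h2]
  refine h6 (g 3) (g 4) (g 5) (g 6) (g 7) (g 8) ?_ ?_ ?_ heq
  · have : ([3, 4, 5, 6, 7, 8] : List (Fin 9)).Nodup := by decide
    exact this.map ginj
  · simp only [List.forall_mem_cons, List.not_mem_nil, false_imp_iff, implies_true, and_true]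
    exact ⟨(hgp 3).1, (hgp 4).1, (hgp 5).1, (hgp 6).1, (hgp 7).1, (hgp 8).1⟩
  · intro a ha b hb
    simp only [List.mem_cons, List.not_mem_nil, or_false] at ha hb
    rcases ha with rfl | rfl | rfl | rfl | rfl | rfl <;>
      rcases hb with rfl | rfl | rfl | rfl | rfl | rfl <;> exact gc _ _

end H65.Fischer
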