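/-
Simplicity and quasisimple point stabilisers at the types M(22) and M(23).
-/
import Cfsg.Agent.H65.Fischer.Oval

set_option autoImplicit false

namespace H65.Fischer

open Cfsg H99
open H5.TT.Fac (Down qD im Desc)
open scoped commutatorElement

section perfect

variable {A : Type*} [Group A] {S : Set A}

/-- A product of six conjugate involutions lies in the commutator subgroup. -/
lemma six_mem_commutator (hinv : ∀ s ∈ S, s * s = 1) (hconj : ∀ s ∈ S, ∀ t ∈ S, IsConj s t)
    (f : Fin 6 → A) (hf : ∀ i, f i ∈ S) : f 0 * f 1 * f 2 * f 3 * f 4 * f 5 ∈ commutator A := by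
  rw [← Abelianization.ker_of, MonoidHom.mem_ker]
  have he : ∀ i, Abelianization.of (f i) = Abelianization.of (f 0) := fun i =>
    (isConj_iff_eq.1 ((Abelianization.of).map_isConj (hconj _ (hf 0) _ (hf i)))).symm
  have h2 : Abelianization.of (f 0) * Abelianization.of (f 0) = 1 := by
    rw [← map_mul, hinv _ (hf 0), map_one]
  simp only [map_mul, he 1, he 2, he 3, he 4, he 5, h2, one_mul]

/-- If one of the generators is a product of six of them, the group is perfect. -/
lemma perfect_of_six (hgen : Subgroup.closure S = ⊤) (hinv : ∀ s ∈ S, s * s = 1)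
    (hconj : ∀ s ∈ S, ∀ t ∈ S, IsConj s t) (f : Fin 6 → A) (hf : ∀ i, f i ∈ S) {t : A} (ht : t ∈ S)
    (he : f 0 * f 1 * f 2 * f 3 * f 4 * f 5 = t) : commutator A = ⊤ := by
  rw [eq_top_iff, ← hgen, Subgroup.closure_le]
  intro s hs
  obtain ⟨c, hc⟩ := isConj_iff.1 (hconj t ht s hs)
  have := six_mem_commutator hinv hconj f hf
  rw [he] at this
  show s ∈ commutator A
  rw [← hc]
  exact Subgroup.Normal.conj_mem inferInstance t this c

end perfect

variable {G : Type*} [Group G] [Finite G] {D : Set G} {n k l m c e : ℕ}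

/-- Generators of the group on the neighbours of a member. -/
lemma perp_gens (hcl : IsThreeTranspositionClass D) {d : G} (h : Desc D d) :
    Subgroup.closure (((↑) : ↥(Subgroup.closure (perp D d)) → G) ⁻¹' perp D d) = ⊤ ∧
      (∀ s ∈ ((↑) : ↥(Subgroup.closure (perp D d)) → G) ⁻¹' perp D d, s * s = 1) ∧
      ∀ s ∈ ((↑) : ↥(Subgroup.closure (perp D d)) → G) ⁻¹' perp D d,
        ∀ t ∈ ((↑) : ↥(Subgroup.closure (perp D d)) → G) ⁻¹' perp D d, IsConj s t := by
  refine ⟨Subgroup.closure_closure_coe_preimage,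
    fun s hs => Subtype.ext (tt_mul_self hcl.1 hs.1), fun s hs t ht => ?_⟩
  obtain ⟨u, hu, he⟩ := h.trans s hs t ht
  exact isConj_iff.2 ⟨⟨u, hu⟩, Subtype.ext he⟩

/-- A normal subgroup other than the trivial one is transitive on the class. -/
lemma normal_trans (hcl : IsThreeTranspositionClass D) (hp : IsPrimitiveUnderConj D)
    (hZ : Subgroup.center G = ⊥) {N : Subgroup G} (hN : N.Normal) (hne : N ≠ ⊥) {d : G} (hd : d ∈ D) :
    ∀ x ∈ D, ∃ u ∈ N, u * d * u⁻¹ = x := by
  set B := (fun u => u * d * u⁻¹) '' (N : Set G) with hB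
  have hblock : ∀ g : G, (fun x => g * x * g⁻¹) '' B = B ∨ Disjoint ((fun x => g * x * g⁻¹) '' B) B := by
    intro g
    rw [or_iff_not_imp_right, Set.not_disjoint_iff]
    rintro ⟨_, ⟨_, ⟨u, hu, rfl⟩, rfl⟩, v, hv, he⟩
    have hgd : ∃ w ∈ N, g * d * g⁻¹ = w * d * w⁻¹ := by
      refine ⟨(g * u * g⁻¹)⁻¹ * v, mul_mem (inv_mem (hN.conj_mem u hu g)) hv, ?_⟩
      have he' : v * d * v⁻¹ = g * (u * d * u⁻¹) * g⁻¹ := he
      calc g * d * g⁻¹ = (g * u * g⁻¹)⁻¹ * (g * (u * d * u⁻¹) * g⁻¹) * (g * u * g⁻¹) := by group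
        _ = _ := by rw [← he']; group
    obtain ⟨w, hw, hgw⟩ := hgd
    refine Set.Subset.antisymm ?_ ?_
    · rintro _ ⟨_, ⟨x, hx, rfl⟩, rfl⟩
      refine ⟨g * x * g⁻¹ * w, mul_mem (hN.conj_mem x hx g) hw, ?_⟩
      calc g * x * g⁻¹ * w * d * (g * x * g⁻¹ * w)⁻¹ = g * x * g⁻¹ * (w * d * w⁻¹) * (g * x * g⁻¹)⁻¹ := by
            group
        _ = g * (x * d * x⁻¹) * g⁻¹ := by rw [← hgw]; group
    · rintro _ ⟨x, hx, rfl⟩
      refine ⟨_, ⟨g⁻¹ * (x * w⁻¹) * g, by simpa using hN.conj_mem _ (mul_mem hx (inv_mem hw)) g⁻¹, rfl⟩, ?_⟩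
      calc g * (g⁻¹ * (x * w⁻¹) * g * d * (g⁻¹ * (x * w⁻¹) * g)⁻¹) * g⁻¹
          = x * w⁻¹ * (g * d * g⁻¹) * (x * w⁻¹)⁻¹ := by group
        _ = x * d * x⁻¹ := by rw [hgw]; group
  rcases hp.2.2 B (by rintro _ ⟨u, -, rfl⟩; exact class_conj_mem hcl u hd) hblock with h | h
  · exfalso
    refine hne (eq_bot_iff.2 fun u hu => ?_)
    have hfix : ∀ x ∈ D, Commute u x := by
      intro x hx
      obtain ⟨g, rfl⟩ := class_isConj hcl hd hx
      have hu' : g⁻¹ * u * g ∈ N := by simpa using hN.conj_mem u hu g⁻¹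
      have h0 : g⁻¹ * u * g * d * (g⁻¹ * u * g)⁻¹ = d :=
        h ⟨_, hu', rfl⟩ ⟨1, one_mem N, by simp⟩
      refine mul_inv_eq_iff_eq_mul.1 ?_
      calc u * (g * d * g⁻¹) * u⁻¹ = g * (g⁻¹ * u * g * d * (g⁻¹ * u * g)⁻¹) * g⁻¹ := by group
        _ = g * d * g⁻¹ := by rw [h0]
    rw [← hZ, Subgroup.mem_center_iff]
    intro y
    have hle : (⊤ : Subgroup G) ≤ Subgroup.centralizer {u} := by
      rw [← hcl.2.2, Subgroup.closure_le]
      exact fun x hx => Subgroup.mem_centralizer_singleton_iff.2 (hfix x hx).eq.symm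
    exact Subgroup.mem_centralizer_singleton_iff.1 (hle (Subgroup.mem_top y))
  · intro x hx
    rw [← h] at hx
    obtain ⟨u, hu, he⟩ := hx
    exact ⟨u, hu, he⟩

/-- Simplicity from a simple group one step down and a perfect point stabiliser. -/
theorem simple_of_down (h : Setting D k l c e) (hg : Good D n k l m) (hN : Num n k l m c e)
    {d : G} (hd : d ∈ D) (hsimp : IsSimpleGroup (Down D d))
    (hperf : commutator ↥(Subgroup.closure (perp D d)) = ⊤)
    {p q r : ℕ} (hp : p.Prime) (hq : q.Prime) (hr : r.Prime) (hpq : p ≠ q) (hpr : p ≠ r)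
    (hqr : q ≠ r) (hpn : p ∣ n) (hqn : q ∣ n) (hrn : r ∣ n) : IsSimpleGroup G := by
  have hcl := h.cls
  obtain ⟨x₀, hx₀, y₀, hy₀, hxy₀⟩ := h.exists_noncomm
  haveI : Nontrivial G := ⟨⟨x₀, y₀, fun he => hxy₀ (he ▸ Commute.refl _)⟩⟩
  refine ⟨fun N hNn => or_iff_not_imp_left.2 fun hne => ?_⟩
  have htr := normal_trans hcl h.prim h.triv hNn hne hd
  have hgoal : d ∈ N → N = ⊤ := fun hdN => by
    rw [eq_top_iff, ← hcl.2.2, Subgroup.closure_le]
    intro x hx
    obtain ⟨u, hu, rfl⟩ := htr x hx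
    exact mul_mem (mul_mem hu hdN) (inv_mem hu)
  set H := Subgroup.closure (perp D d) with hH
  haveI : (N.subgroupOf H).Normal := hNn.subgroupOf H
  set π := QuotientGroup.mk' (Subgroup.center ↥H) with hπ
  haveI : ((N.subgroupOf H).map π).Normal :=
    Subgroup.Normal.map inferInstance π (QuotientGroup.mk'_surjective _)
  rcases IsSimpleGroup.eq_bot_or_eq_top_of_normal ((N.subgroupOf H).map π) inferInstance with hb | ht
  · by_cases hdN : d ∈ N
    · exact hgoal hdN
    exfalso
    have hint : ∀ u ∈ N, Commute u d → u = 1 := by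
      intro u hu hud
      have huH : u ∈ H := by
        rw [hH, ← hg.cent d hd]
        exact Subgroup.mem_centralizer_singleton_iff.2 hud.eq
      have h1 : π ⟨u, huH⟩ = 1 := by
        rw [← Subgroup.mem_bot, ← hb]
        exact ⟨⟨u, huH⟩, hu, rfl⟩
      rw [hπ, QuotientGroup.mk'_apply, QuotientGroup.eq_one_iff, center_perp h hg hN hd,
        Subgroup.mem_subgroupOf] at h1
      rcases mem_zpowers_two (tt_mul_self hcl.1 hd) h1 with h2 | h2
      · exact h2
      · exact absurd (h2 ▸ hu) hdN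
    choose w hwN hw using htr
    have hkey : ∀ u ∈ N, ∀ (hx : u * d * u⁻¹ ∈ D), w _ hx = u := by
      intro u hu hx
      have hc : Commute (u⁻¹ * w _ hx) d := by
        refine mul_inv_eq_iff_eq_mul.1 ?_
        calc u⁻¹ * w _ hx * d * (u⁻¹ * w _ hx)⁻¹ = u⁻¹ * (w _ hx * d * (w _ hx)⁻¹) * u := by group
          _ = d := by rw [hw]; group
      exact (inv_mul_eq_one.1 (hint _ (mul_mem (inv_mem hu) (hwN _ hx)) hc)).symm
    have hcard : Nat.card N = n := by
      rw [← hg.srg.card, ← Nat.card_coe_set_eq]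
      refine Nat.card_congr
        { toFun := fun u => ⟨(u : G) * d * (u : G)⁻¹, class_conj_mem hcl _ hd⟩
          invFun := fun x => ⟨w x.1 x.2, hwN x.1 x.2⟩
          left_inv := fun u => Subtype.ext (hkey _ u.2 _)
          right_inv := fun x => Subtype.ext (hw x.1 x.2) }
    have hord : ∀ {x y : G} (hx : x ∈ D) (hy : y ∈ D) {v : G}, Commute v d → v * x * v⁻¹ = y →
        orderOf (w x hx) = orderOf (w y hy) := by
      intro x y hx hy v hv he
      have h1 : w y hy = v * w x hx * v⁻¹ := by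
        have hc : v * w x hx * v⁻¹ * d * (v * w x hx * v⁻¹)⁻¹ = y := by
          calc v * w x hx * v⁻¹ * d * (v * w x hx * v⁻¹)⁻¹
              = v * w x hx * (v⁻¹ * d * v) * (w x hx)⁻¹ * v⁻¹ := by group
            _ = v * (w x hx * d * (w x hx)⁻¹) * v⁻¹ := by rw [mul_assoc v⁻¹, ← hv.eq]; group
            _ = y := by rw [hw, he]
        subst hc
        exact hkey _ (hNn.conj_mem _ (hwN x hx) v) hy
      rw [h1]
      exact ((MulAut.conj v).orderOf_eq (w x hx)).symm
    obtain ⟨a, ha⟩ := exists_perp hcl h.wide hd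
    obtain ⟨b, hb', hdb⟩ := class_exists_not_commute hcl h.prim.2.1 hd
    have hall : ∀ u ∈ N, u ≠ 1 → orderOf u = orderOf (w a ha.1) ∨ orderOf u = orderOf (w b hb') := by
      intro u hu hu1
      have hx : u * d * u⁻¹ ∈ D := class_conj_mem hcl _ hd
      rw [← hkey u hu hx]
      by_cases hc : Commute d (u * d * u⁻¹)
      · have hne' : u * d * u⁻¹ ≠ d := fun he => hu1 (hint u hu (mul_inv_eq_iff_eq_mul.1 he))
        obtain ⟨v, hv, he⟩ := trans_on_commuting hcl h.prim h.wide hd a ha _ ⟨hx, hne', hc⟩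
        exact Or.inl (hord ha.1 hx (perpIns_commute (perp_closure_le hv)) he).symm
      · obtain ⟨v, hv, he⟩ := trans_on_noncommuting hcl h.prim h.wide hd hb' hdb hx hc
        exact Or.inr (hord hb' hx (perpIns_commute hv) he).symm
    have hex : ∀ {s : ℕ}, s.Prime → s ∣ n →
        s = orderOf (w a ha.1) ∨ s = orderOf (w b hb') := by
      intro s hs hsn
      haveI := Fact.mk hs
      obtain ⟨u, hu⟩ := exists_prime_orderOf_dvd_card' (G := N) s (hcard.symm ▸ hsn)
      have hu' : orderOf (u : G) = s := by rw [← hu]; exact Subgroup.orderOf_coe u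
      rw [← hu']
      refine hall _ u.2 fun h1 => ?_
      rw [h1, orderOf_one] at hu'
      exact hs.ne_one hu'.symm
    rcases hex hp hpn with h1 | h1 <;> rcases hex hq hqn with h2 | h2 <;>
      rcases hex hr hrn with h3 | h3 <;> omega
  · refine hgoal ?_
    have hK : commutator ↥H ≤ N.subgroupOf H := by
      rw [commutator_def, Subgroup.commutator_le]
      intro s _ t _
      have hdec : ∀ v : ↥H, ∃ u ∈ N.subgroupOf H, ∃ z ∈ Subgroup.center ↥H, v = u * z := by
        intro v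
        obtain ⟨u, hu, he⟩ : π v ∈ (N.subgroupOf H).map π := by rw [ht]; trivial
        exact ⟨u, hu, u⁻¹ * v, QuotientGroup.eq.1 he, by group⟩
      obtain ⟨u, hu, z, hz, rfl⟩ := hdec s
      obtain ⟨u', hu', z', hz', rfl⟩ := hdec t
      have hz1 : ∀ v, v * z = z * v := Subgroup.mem_center_iff.1 hz
      have hz2 : ∀ v, v * z' = z' * v := Subgroup.mem_center_iff.1 hz'
      have : ⁅u * z, u' * z'⁆ = ⁅u, u'⁆ := by
        simp only [commutatorElement_def, mul_inv_rev]
        calc u * z * (u' * z') * (z⁻¹ * u⁻¹) * (z'⁻¹ * u'⁻¹)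
            = u * (z * (u' * z')) * z⁻¹ * u⁻¹ * (z'⁻¹ * u'⁻¹) := by group
          _ = u * u' * (z' * u⁻¹) * z'⁻¹ * u'⁻¹ := by rw [← hz1]; group
          _ = u * u' * u⁻¹ * u'⁻¹ := by rw [← hz2]; group
      rw [this, commutatorElement_def]
      exact mul_mem (mul_mem (mul_mem hu hu') (inv_mem hu)) (inv_mem hu')
    rw [hperf] at hK
    exact hK (x := ⟨d, hg.mem d hd⟩) trivial

/-- Point stabilisers at type M(22) are perfect with simple quotient. -/
theorem perp_m22 (hD : IsThreeTranspositionGroup D) (hp : IsPrimitiveUnderConj D)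
    (h : IsOfTypeM22 G D) {d : G} (hd : d ∈ D) :
    IsSimpleGroup (Down D d) ∧ commutator ↥(Subgroup.closure (perp D d)) = ⊤ := by
  obtain ⟨F, hFi, hFf, hF, hall⟩ := m22_down hD hp h
  obtain ⟨hdesc, -, ⟨e⟩⟩ := hall d hd
  haveI : IsSimpleGroup (PSU 6 F 2) := H50.PSU_isSimple hF (by norm_num) (by norm_num)
  haveI : IsSimpleGroup (Down D d) := e.isSimpleGroup
  refine ⟨inferInstance, ?_⟩
  have hcl := class_of_primitive hD hp
  set H := Subgroup.closure (perp D d) with hH
  obtain ⟨-, hinv, hconj⟩ := perp_gens hcl hdesc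
  obtain ⟨f, -, hf, -, he, -⟩ := m22_seven hD hp h hd
  let g : Fin 6 → ↥H := fun i => ⟨f (Fin.castLE (by norm_num) i), Subgroup.subset_closure (hf _)⟩
  have hdH : (⟨d, (m22_good hD hp h).mem d hd⟩ : ↥H) ∈ commutator ↥H := by
    have h6 := six_mem_commutator hinv hconj g (fun i => hf _)
    rwa [show g 0 * g 1 * g 2 * g 3 * g 4 * g 5 = ⟨d, (m22_good hD hp h).mem d hd⟩ from
      Subtype.ext he] at h6
  have hZle : Subgroup.center ↥H ≤ commutator ↥H := by
    intro z hz
    rw [center_perp (m22_setting hD hp h) (m22_good hD hp h) num_22 hd, Subgroup.mem_subgroupOf] at hz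
    rcases mem_zpowers_two (tt_mul_self hD.1 hd) hz with h1 | h1
    · rw [show z = 1 from Subtype.ext h1]; exact one_mem _
    · rwa [show z = ⟨d, (m22_good hD hp h).mem d hd⟩ from Subtype.ext h1]
  have hnc : H5.TT.Fac.NC D d := hdesc.nc
  have hQ : commutator (Down D d) = ⊤ := by
    rcases IsSimpleGroup.eq_bot_or_eq_top_of_normal (commutator (Down D d)) inferInstance with h0 | h0
    · exfalso
      obtain ⟨x, hx, y, hy, hxy⟩ := hnc
      refine hxy ((H5.TT.Fac.im_commute hdesc hx hy).1 ?_)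
      rw [commutator_def, Subgroup.commutator_eq_bot_iff_le_centralizer] at h0
      exact (Subgroup.mem_centralizer_iff.1 (h0 (Subgroup.mem_top (im hx))) (im hy)
        (Subgroup.mem_top _)).symm
    · exact h0
  set π := QuotientGroup.mk' (Subgroup.center ↥H) with hπ
  have hmap : (commutator ↥H).map π = ⊤ := by
    rw [commutator_def, Subgroup.map_commutator, Subgroup.map_top_of_surjective _
      (QuotientGroup.mk'_surjective _), ← commutator_def]
    exact hQ
  have := congrArg (Subgroup.comap π) hmap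
  rw [Subgroup.comap_map_eq, Subgroup.comap_top, hπ, QuotientGroup.ker_mk',
    sup_eq_left.2 hZle] at this
  exact this

/-- Type M(22) groups are simple. -/
theorem simple_m22 (hD : IsThreeTranspositionGroup D) (hp : IsPrimitiveUnderConj D)
    (h : IsOfTypeM22 G D) : IsSimpleGroup G := by
  obtain ⟨d, hd, -⟩ := (class_of_primitive hD hp).2.1
  obtain ⟨h1, h2⟩ := perp_m22 hD hp h hd
  exact simple_of_down (m22_setting hD hp h) (m22_good hD hp h) num_22 hd h1 h2
    (p := 3) (q := 5) (r := 13) (by norm_num) (by norm_num) (by norm_num) (by norm_num)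
    (by norm_num) (by norm_num) (by norm_num) (by norm_num) (by norm_num)

/-- Point stabilisers at type M(23) are perfect with simple quotient. -/
theorem perp_m23 (hD : IsThreeTranspositionGroup D) (hp : IsPrimitiveUnderConj D)
    (h : IsOfTypeM23 G D) {d : G} (hd : d ∈ D) :
    IsSimpleGroup (Down D d) ∧ commutator ↥(Subgroup.closure (perp D d)) = ⊤ := by
  have hcl := class_of_primitive hD hp
  constructor
  · obtain ⟨d₀, hd₀, hdesc₀, hpX, hX⟩ := m23_down hD hp h
    obtain ⟨g, hg⟩ := class_isConj hcl hd₀ hd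
    obtain ⟨f, -⟩ := exists_downEquiv hD.2.1 g hg
    haveI := simple_m22 (class_toGroup (H5.TT.Fac.qD_class hdesc₀)) hpX hX
    exact f.symm.isSimpleGroup
  · obtain ⟨hgen, hinv, hconj⟩ := perp_gens hcl (m23_down_good hD hp h hd).1
    obtain ⟨t, f, ht, hf, he⟩ := m23_seven hD hp h hd
    exact perfect_of_six hgen hinv hconj
      (fun i => ⟨f i, Subgroup.subset_closure (hf i)⟩) (fun i => hf i)
      (t := ⟨t, Subgroup.subset_closure ht⟩) ht (Subtype.ext he)

/-- Type M(23) groups are simple. -/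
theorem simple_m23 (hD : IsThreeTranspositionGroup D) (hp : IsPrimitiveUnderConj D)
    (h : IsOfTypeM23 G D) : IsSimpleGroup G := by
  obtain ⟨d, hd, -⟩ := (class_of_primitive hD hp).2.1
  obtain ⟨h1, h2⟩ := perp_m23 hD hp h hd
  exact simple_of_down (m23_setting hD hp h) (m23_good hD hp h) num_23 hd h1 h2
    (p := 3) (q := 17) (r := 23) (by norm_num) (by norm_num) (by norm_num) (by norm_num)
    (by norm_num) (by norm_num) (by norm_num) (by norm_num) (by norm_num)

end H65.Fischer
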