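/-
Transitivity on ordered commuting triples and the count of factorisations at type M(22).
-/
import Cfsg.Agent.H65.Fischer.Orders

set_option autoImplicit false

namespace H65.Fischer

open Cfsg H99
open H5.TT.Fac (Down qD im Desc)

variable {G : Type*} [Group G] [Finite G] {D : Set G}

/-- Ordered triples of distinct pairwise commuting members. -/
def triples (D : Set G) : Set (G × G × G) :=
  {t | t.1 ∈ D ∧ t.2.1 ∈ perp D t.1 ∧ t.2.2 ∈ perp D t.1 ∩ perp D t.2.1}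

omit [Finite G] in
/-- Isomorphisms preserve primitivity. -/
theorem prim_image {A B : Type*} [Group A] [Group B] (e : A ≃* B) {E : Set A}
    (h : IsPrimitiveUnderConj E) : IsPrimitiveUnderConj (e '' E) := by
  obtain ⟨h1, ⟨a, ha, b, hb, hab⟩, h3⟩ := h
  refine ⟨?_, ⟨e a, ⟨a, ha, rfl⟩, e b, ⟨b, hb, rfl⟩, fun he => hab (e.injective he)⟩, fun T hT hB => ?_⟩
  · rintro _ ⟨x, hx, rfl⟩ _ ⟨y, hy, rfl⟩
    obtain ⟨g, hg⟩ := h1 x hx y hy
    exact ⟨e g, by rw [← map_inv, ← map_mul, ← map_mul, hg]⟩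
  · have himg : e '' (e ⁻¹' T) = T := Set.image_preimage_eq T e.surjective
    have hsub : e ⁻¹' T ⊆ E := fun x hx => by
      obtain ⟨y, hy, he⟩ := hT hx
      rwa [← e.injective he]
    have hconj : ∀ g : A, e '' ((fun x => g * x * g⁻¹) '' (e ⁻¹' T)) = (fun x => e g * x * (e g)⁻¹) '' T := by
      intro g
      conv_rhs => rw [← himg]
      rw [Set.image_image, Set.image_image]
      exact Set.image_congr fun x _ => by simp
    refine (h3 _ hsub fun g => ?_).imp (fun hs => ?_) (fun hs => by rw [← himg, hs])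
    · refine (hB (e g)).imp (fun he => ?_) (fun he => ?_)
      · refine Set.image_injective.2 e.injective ?_
        rw [hconj, he, himg]
      · refine (Set.disjoint_image_iff e.injective).1 ?_
        rw [hconj, himg]
        exact he
    · rw [← himg]; exact hs.image _

/-- The group is transitive on ordered commuting triples. -/
theorem triples_trans (hD : IsThreeTranspositionGroup D) (hp : IsPrimitiveUnderConj D)
    (h : IsOfTypeM22 G D) {t t' : G × G × G} (ht : t ∈ triples D) (ht' : t' ∈ triples D) :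
    ∃ g : G, g * t.1 * g⁻¹ = t'.1 ∧ g * t.2.1 * g⁻¹ = t'.2.1 ∧ g * t.2.2 * g⁻¹ = t'.2.2 := by
  obtain ⟨F, hFi, hFf, hF, hall⟩ := m22_down hD hp h
  have hcl := class_of_primitive hD hp
  have hconj := hD.2.1
  obtain ⟨a, b, c⟩ := t
  obtain ⟨x, y, z⟩ := t'
  obtain ⟨(ha : a ∈ D), (hb : b ∈ perp D a), (hc : c ∈ perp D a ∩ perp D b)⟩ := ht
  obtain ⟨(hx : x ∈ D), (hy : y ∈ perp D x), (hz : z ∈ perp D x ∩ perp D y)⟩ := ht'
  obtain ⟨g₁, hg₁⟩ := class_isConj hcl ha hx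
  have hb₁ : g₁ * b * g₁⁻¹ ∈ perp D x := hg₁ ▸ perp_conj hconj g₁ hb
  have hc₁ : g₁ * c * g₁⁻¹ ∈ perp D x := hg₁ ▸ perp_conj hconj g₁ hc.1
  have hw : ∃ a ∈ D, ∃ b ∈ D, a ≠ b ∧ Commute a b := ⟨x, hx, y, hy.1, hy.2.1.symm, hy.2.2⟩
  obtain ⟨g₂, hg₂, hg₂b⟩ := trans_on_commuting hcl hp hw hx _ hb₁ y hy
  obtain ⟨hdesc, hgood, ⟨e⟩⟩ := hall x hx
  have hc₂ := H5.TT.Fac.perp_closure_conj hdesc hg₂ hc₁
  have hx₂ : g₂ * x * g₂⁻¹ = x := by
    rw [(perpIns_commute (perp_closure_le hg₂)).eq, mul_inv_cancel_right]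
  set c₂ := g₂ * (g₁ * c * g₁⁻¹) * g₂⁻¹ with hc₂def
  have hcy : Commute y c₂ := by
    rw [hc₂def, ← hg₂b]
    exact (conj_commute_iff g₂ _ _).2 ((conj_commute_iff g₁ b c).2 hc.2.2.2)
  have hne : c₂ ≠ y := by
    rw [hc₂def, ← hg₂b]
    exact fun he => hc.2.2.1 (mul_left_cancel (mul_right_cancel
      (mul_left_cancel (mul_right_cancel he))))
  have hqy : im hc₂ ∈ perp (qD D x) (im hy) :=
    ⟨H5.TT.Fac.im_mem hc₂, fun he => hne (H5.TT.Fac.im_inj hdesc hc₂ hy he),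
      (H5.TT.Fac.im_commute hdesc hy hc₂).2 hcy⟩
  have hqz : im hz.1 ∈ perp (qD D x) (im hy) :=
    ⟨H5.TT.Fac.im_mem hz.1, fun he => hz.2.2.1 (H5.TT.Fac.im_inj hdesc hz.1 hy he),
      (H5.TT.Fac.im_commute hdesc hy hz.1).2 hz.2.2.2⟩
  have hpq : IsPrimitiveUnderConj (qD D x) := by
    have h1 := prim_image e.symm (tClass_srg_prim hF).1
    rwa [← image_qD hF hD.1 hD.2.1 hdesc e, Set.image_image,
      Set.image_congr (g := id) (fun u _ => e.symm_apply_apply u), Set.image_id] at h1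
  obtain ⟨m, hm, hmz⟩ := trans_on_commuting hgood.cls hpq
    ⟨im hy, H5.TT.Fac.im_mem hy, im hz.1, H5.TT.Fac.im_mem hz.1, hqz.2.1.symm, hqz.2.2⟩
    (H5.TT.Fac.im_mem hy) _ hqy _ hqz
  have hmy : m * im hy * m⁻¹ = im hy := by
    rw [(perpIns_commute (perp_closure_le hm)).eq, mul_inv_cancel_right]
  obtain ⟨⟨g₃, hg₃⟩, rfl⟩ := QuotientGroup.mk_surjective m
  have him : ∀ {u : G} (hu : u ∈ perp D x), im (H5.TT.Fac.perp_closure_conj hdesc hg₃ hu) =
      QuotientGroup.mk ⟨g₃, hg₃⟩ * im hu * (QuotientGroup.mk ⟨g₃, hg₃⟩)⁻¹ := fun hu => rfl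
  have e1 : g₃ * y * g₃⁻¹ = y := H5.TT.Fac.im_inj hdesc _ hy ((him hy).trans hmy)
  have e2 : g₃ * c₂ * g₃⁻¹ = z := H5.TT.Fac.im_inj hdesc _ hz.1 ((him hc₂).trans hmz)
  have e0 : g₃ * x * g₃⁻¹ = x := by
    rw [(perpIns_commute (perp_closure_le hg₃)).eq, mul_inv_cancel_right]
  refine ⟨g₃ * g₂ * g₁, ?_, ?_, ?_⟩
  · calc g₃ * g₂ * g₁ * a * (g₃ * g₂ * g₁)⁻¹ = g₃ * (g₂ * (g₁ * a * g₁⁻¹) * g₂⁻¹) * g₃⁻¹ := by group
      _ = x := by rw [hg₁, hx₂, e0]
  · calc g₃ * g₂ * g₁ * b * (g₃ * g₂ * g₁)⁻¹ = g₃ * (g₂ * (g₁ * b * g₁⁻¹) * g₂⁻¹) * g₃⁻¹ := by group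
      _ = y := by rw [hg₂b, e1]
  · calc g₃ * g₂ * g₁ * c * (g₃ * g₂ * g₁)⁻¹ = g₃ * c₂ * g₃⁻¹ := by rw [hc₂def]; group
      _ = z := e2

/-- The number of ordered commuting triples. -/
theorem card_triples {n k l m : ℕ} (hs : IsSRG D n k l m) :
    Nat.card (triples D) = n * k * l := by
  classical
  let e : triples D ≃ Σ x : D, Σ y : perp D (x : G), ↥(perp D (x : G) ∩ perp D (y : G)) :=
    { toFun := fun t => ⟨⟨t.1.1, t.2.1⟩, ⟨t.1.2.1, t.2.2.1⟩, ⟨t.1.2.2, t.2.2.2⟩⟩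
      invFun := fun q => ⟨(q.1, q.2.1, q.2.2), q.1.2, q.2.1.2, q.2.2.2⟩
      left_inv := fun _ => rfl
      right_inv := fun _ => rfl }
  letI := Fintype.ofFinite D
  rw [Nat.card_congr e, Nat.card_sigma]
  have h1 : ∀ x : D, Nat.card (Σ y : perp D (x : G), ↥(perp D (x : G) ∩ perp D (y : G))) = k * l := by
    intro x
    letI := Fintype.ofFinite (perp D (x : G))
    rw [Nat.card_sigma, Finset.sum_congr rfl fun (y : perp D (x : G)) _ => (Nat.card_coe_set_eq _).trans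
      (hs.adj x x.2 y y.2.1 y.2.2.1.symm y.2.2.2), Finset.sum_const, Finset.card_univ, smul_eq_mul,
      ← Nat.card_eq_fintype_card, Nat.card_coe_set_eq, hs.deg x x.2]
  rw [Finset.sum_congr rfl fun x _ => h1 x, Finset.sum_const, Finset.card_univ, smul_eq_mul,
    ← Nat.card_eq_fintype_card, Nat.card_coe_set_eq, hs.card, mul_assoc]

/-- The centraliser of a product, from the count of factorisations. -/
theorem card_centralizer_prod (hD : IsThreeTranspositionGroup D) (hp : IsPrimitiveUnderConj D)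
    (h : IsOfTypeM22 G D) {a b c : G} (ht : (a, b, c) ∈ triples D) {N : ℕ}
    (hN : {t ∈ triples D | t.1 * t.2.1 * t.2.2 = a * b * c}.ncard = N) :
    Nat.card ↥(Subgroup.centralizer ({a * b * c} : Set G)) * (3510 * 693 * 180) = N * Nat.card G := by
  classical
  have hconj := hD.2.1
  let φ : G → G × G × G → G × G × G := fun g t =>
    (g * t.1 * g⁻¹, g * t.2.1 * g⁻¹, g * t.2.2 * g⁻¹)
  have hφinj : ∀ g, Function.Injective (φ g) := fun g s t he => by
    simp only [φ, Prod.mk.injEq, mul_left_inj, mul_right_inj] at he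
    exact Prod.ext he.1 (Prod.ext he.2.1 he.2.2)
  have hφmem : ∀ g, ∀ t ∈ triples D, φ g t ∈ triples D := fun g t ht' =>
    ⟨hconj g _ ht'.1, perp_conj hconj g ht'.2.1, perp_conj hconj g ht'.2.2.1,
      perp_conj hconj g ht'.2.2.2⟩
  let P : G × G × G → G := fun t => t.1 * t.2.1 * t.2.2
  have hP : ∀ g t, P (φ g t) = g * P t * g⁻¹ := fun g t => by simp only [P, φ]; group
  set j := a * b * c with hj
  have hfib : ∀ j', IsConj j j' → {t ∈ triples D | P t = j'}.ncard = N := by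
    intro j' hj'
    obtain ⟨g, rfl⟩ := isConj_iff.1 hj'
    rw [← hN]
    refine Eq.trans ?_ (Set.ncard_image_of_injective _ (hφinj g))
    congr 1
    ext t
    constructor
    · rintro ⟨ht', hPt⟩
      refine ⟨φ g⁻¹ t, ⟨hφmem _ t ht', ?_⟩, ?_⟩
      · show P (φ g⁻¹ t) = j
        rw [hP, hPt]; group
      · simp [φ, mul_assoc]
    · rintro ⟨s, ⟨hs1, hs2⟩, rfl⟩
      refine ⟨hφmem g s hs1, ?_⟩
      rw [hP, show P s = j from hs2]
  letI := Fintype.ofFinite G
  have himg : ∀ t ∈ triples D, IsConj j (P t) := by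
    intro t ht'
    obtain ⟨g, h1, h2, h3⟩ := triples_trans hD hp h ht ht'
    refine isConj_iff.2 ⟨g, ?_⟩
    show g * (a * b * c) * g⁻¹ = t.1 * t.2.1 * t.2.2
    rw [← h1, ← h2, ← h3]; group
  have hsum : Nat.card (triples D) = (conjugatesOf j).ncard * N := by
    obtain ⟨S, hS⟩ : ∃ S, S = conjugatesOf j := ⟨_, rfl⟩
    rw [← hS]
    letI := Fintype.ofFinite S
    let e : triples D ≃ Σ j' : S, ↥{t ∈ triples D | P t = (j' : G)} :=
      { toFun := fun t => ⟨⟨P t.1, hS ▸ himg t.1 t.2⟩, ⟨t.1, t.2, rfl⟩⟩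
        invFun := fun q => ⟨q.2.1, q.2.2.1⟩
        left_inv := fun _ => rfl
        right_inv := fun ⟨⟨y, hy⟩, t, ht', he⟩ => by
          have he' : P t = y := he
          subst he'
          rfl }
    have hfc : ∀ j' : S, Nat.card ↥{t ∈ triples D | P t = (j' : G)} = N := fun j' => by
      rw [Nat.card_coe_set_eq]
      exact hfib j' (show (j' : G) ∈ conjugatesOf j from hS ▸ j'.2)
    rw [Nat.card_congr e, Nat.card_sigma, Finset.sum_congr rfl fun j' _ => hfc j', Finset.sum_const,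
      Finset.card_univ, smul_eq_mul, ← Nat.card_eq_fintype_card, Nat.card_coe_set_eq]
  have horb : (conjugatesOf j).ncard * Nat.card ↥(Subgroup.centralizer ({j} : Set G)) = Nat.card G := by
    have horb' : conjugatesOf j = MulAction.orbit (ConjAct G) j := by
      ext x
      rw [MulAction.mem_orbit_iff]
      exact ⟨fun hx => let ⟨g, hg⟩ := isConj_iff.1 hx; ⟨ConjAct.toConjAct g, hg⟩,
        fun ⟨g, hg⟩ => isConj_iff.2 ⟨ConjAct.ofConjAct g, hg⟩⟩
    have hst : Nat.card ↥(MulAction.stabilizer (ConjAct G) j) =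
        Nat.card ↥(Subgroup.centralizer ({j} : Set G)) := by
      refine Nat.card_congr (Equiv.subtypeEquiv ConjAct.ofConjAct.toEquiv fun g => ?_)
      rw [MulAction.mem_stabilizer_iff, ConjAct.smul_def, Subgroup.mem_centralizer_singleton_iff,
        mul_inv_eq_iff_eq_mul]
      rfl
    rw [← hst, horb', ← Nat.card_coe_set_eq, ← Nat.card_prod,
      Nat.card_congr (MulAction.orbitProdStabilizerEquivGroup (ConjAct G) j)]
    exact Nat.card_congr ConjAct.ofConjAct.toEquiv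
  rw [← card_triples (m22_good hD hp h).srg, hsum, ← horb]
  ring

end H65.Fischer
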